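import Cfsg.Agent.H674.XZ.Base
import Cfsg.Agent.H493.RatB.WitS
import Cfsg.Agent.H245.DM.Count

/-!
# S4791 + S4927: `X0` for groups without elements of order `p²` and with `C(P) ≤ P` (helper761)
-/

set_option autoImplicit false
set_option linter.unusedSectionVars false

open Cfsg Subgroup
open scoped ComplexConjugate

namespace Cfsg.Agent.H761.XZ

open Cfsg.Agent.H674.XZ

universe u v

/-- No elements of order `p²` : every character is almost `p`-rational. -/
theorem alm_of_order {G : Type u} [Group G] [Finite G] {p : ℕ} [hp : Fact p.Prime] (ho : ∀ g : G, ¬ p ^ 2 ∣ orderOf g)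
    {χ : G → ℂ} (hχ : IsCharacter G χ) : Alm p χ := by
  rw [alm_iff_fun hχ]
  intro u hu g
  have h1 := (mem_JJ (p := p) u).1 hu
  have h2 : orderOf g ∣ dd p G := by
    have h3 := gcd_dvd_dd hp.out G (ho g)
    rwa [Nat.gcd_eq_right (orderOf_dvd_natCard g)] at h3
  have h4 : g ^ ex u = g ^ 1 := by
    rw [pow_eq_pow_iff_modEq]
    exact h1.of_dvd h2
  rw [h4, pow_one]

/-- If the `p'`-elements centralizing a `p`-subgroup are trivial, every irreducible character of degree prime to `p` is in
the principal block. -/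
theorem mem_of_cent {G : Type u} [Group G] [Finite G] {p : ℕ} [hp : Fact p.Prime] {M : Ideal AlgInt}
    (hM : IsPModular p M) {U : Subgroup G} (hU : IsPGroup p U)
    (hC : ∀ y : G, y ∈ centralizer (U : Set G) → ¬ p ∣ orderOf y → y = 1) (χ : IrrCharacter G)
    (hχ : ¬ p ∣ charDegree (χ : G → ℂ)) : χ ∈ principalBlock M G := by
  refine H493.RatB.mem_of_value hM hU χ hχ fun y hy hy' => ?_
  rw [hC y hy hy', sub_self]
  exact Blocks.LocalRing.memLocalIdeal_zero hM

/-- the number `x0` -/
theorem x0_eq {G : Type u} [Group G] [Finite G] {p : ℕ} [hp : Fact p.Prime] {M : Ideal AlgInt}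
    (hM : IsPModular p M) {U : Subgroup G} (hU : IsPGroup p U)
    (hC : ∀ y : G, y ∈ centralizer (U : Set G) → ¬ p ∣ orderOf y → y = 1) (ho : ∀ g : G, ¬ p ^ 2 ∣ orderOf g) :
    x0 p M G = Nat.card {χ : IrrCharacter G // ¬ p ∣ charDegree (χ : G → ℂ)} := by
  unfold x0
  refine Nat.card_congr (Equiv.subtypeEquivRight fun χ => ?_)
  constructor
  · exact fun h => h.2.1
  · exact fun h => ⟨mem_of_cent hM hU hC χ h, h, alm_of_order ho (Blocks.Basic.irr_isCharacter χ.2)⟩

/-- transport of the number of irreducible characters of degree prime to `p` -/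
theorem card_congr {G : Type u} {H : Type v} [Group G] [Group H] (e : G ≃* H) (p : ℕ) :
    Nat.card {χ : IrrCharacter G // ¬ p ∣ charDegree (χ : G → ℂ)} =
      Nat.card {χ : IrrCharacter H // ¬ p ∣ charDegree (χ : H → ℂ)} :=
  Nat.card_congr ((H245.DM.irrCongr e).subtypeEquiv fun χ => by rw [H245.DM.charDegree_irrCongr])

/-- the version along an isomorphism -/
theorem x0_eq_of_equiv {G : Type u} {H : Type v} [Group G] [Group H] [Finite G] (e : G ≃* H) {p : ℕ} [hp : Fact p.Prime]
    {M : Ideal AlgInt} (hM : IsPModular p M) {U : Subgroup H} (hU : IsPGroup p U)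
    (hC : ∀ y : H, y ∈ centralizer (U : Set H) → ¬ p ∣ orderOf y → y = 1) (ho : ∀ g : H, ¬ p ^ 2 ∣ orderOf g) :
    x0 p M G = Nat.card {χ : IrrCharacter H // ¬ p ∣ charDegree (χ : H → ℂ)} := by
  rw [← card_congr e p]
  refine x0_eq hM (U := U.comap e.toMonoidHom) ?_ ?_ ?_
  · exact hU.comap_of_injective _ e.injective
  · intro y hy hy'
    have h1 : e y = 1 := by
      refine hC (e y) ?_ (by rwa [MulEquiv.orderOf_eq])
      rw [mem_centralizer_iff]
      intro u hu
      have h2 := mem_centralizer_iff.1 hy (e.symm u) (by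
        show e (e.symm u) ∈ U
        rwa [e.apply_symm_apply])
      have h3 := congrArg e h2
      rwa [map_mul, map_mul, e.apply_symm_apply] at h3
    exact (map_eq_one_iff e e.injective).1 h1
  · intro g
    rw [← MulEquiv.orderOf_eq e]
    exact ho _

end Cfsg.Agent.H761.XZ
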