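import Cfsg.Agent.H609.Inv.MEleven
import Cfsg.Agent.H603.FD.Spor
import Cfsg.Agent.H408.SporSelf
import Cfsg.Agent.H547.SelfCent.Base
import Cfsg.Agent.H761.XZ.Tool

/-!
# The Monster at 11: `C(P) ≤ P`, no element of order 121 (helper761, for S4791 + S4927)
-/

set_option autoImplicit false
set_option linter.unusedSectionVars false

open Cfsg Subgroup
open scoped ComplexConjugate

namespace Cfsg.Agent.H761.XZ

open Cfsg.Agent.H674.XZ
open Cfsg.Agent.LThreeMB (XX Zx)
open Cfsg.Agent.BpSpor.MBigModel (MG)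

universe u v

theorem cent_m12 {Q : Type*} [Group Q] (i : Q ≃* Spor.M12) {y : Q} (hy : orderOf y = 11) :
    Nat.card (centralizer ({y} : Set Q)) = 11 := by
  have hcard : Nat.card Spor.M12 = 95040 := (H603.FD.Spor.isM12 ⟨MulEquiv.refl _⟩).2
  have : Finite Spor.M12 := Nat.finite_of_card_ne_zero (by rw [hcard]; norm_num)
  have : Finite Q := Finite.of_equiv _ i.symm.toEquiv
  obtain ⟨x, hx, hc⟩ := H408.SporSelf.m12
  obtain ⟨x', hx', hc'⟩ := H408.SporEng.Self.congr i.symm ⟨x, hx, hc⟩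
  rw [← hc']
  exact H547.SelfCent.card_cent_eq (by norm_num) (by rw [Nat.card_congr i.toEquiv, hcard]; norm_num) hy hx'

/-- a group with the data -/
theorem cent_one {G : Type*} [Group G] {x y : G} (hx : orderOf x = 11) (hy : orderOf y = 11) (hxy : x * y = y * x)
    (hyx : y ∉ zpowers x) (i : XX x ≃* Spor.M12) {c : G} (hcx : c * x = x * c) (hcy : c * y = y * c)
    (hc : ¬ 11 ∣ orderOf c) : c = 1 := by
  have hcard : Nat.card Spor.M12 = 95040 := (H603.FD.Spor.isM12 ⟨MulEquiv.refl _⟩).2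
  have : Finite Spor.M12 := Nat.finite_of_card_ne_zero (by rw [hcard]; norm_num)
  have : Finite (XX x) := Finite.of_equiv _ i.symm.toEquiv
  let y' : centralizer ({x} : Set G) := ⟨y, mem_centralizer_singleton_iff.2 hxy.symm⟩
  let c' : centralizer ({x} : Set G) := ⟨c, mem_centralizer_singleton_iff.2 hcx⟩
  let π : centralizer ({x} : Set G) →* XX x := QuotientGroup.mk' (Zx x)
  have hker : ∀ g : centralizer ({x} : Set G), π g = 1 → (g : G) ∈ zpowers x := by
    intro g hg
    have h1 : g ∈ Zx x := (QuotientGroup.eq_one_iff g).1 hg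
    obtain ⟨k, hk⟩ := mem_zpowers_iff.1 h1
    refine mem_zpowers_iff.2 ⟨k, ?_⟩
    have h2 := congrArg Subtype.val hk
    exact h2
  have hy' : orderOf (π y') = 11 := by
    refine orderOf_eq_prime ?_ fun h => hyx (hker y' h)
    rw [← map_pow]
    have h1 : y' ^ 11 = 1 := Subtype.ext (by
      show y ^ 11 = 1
      rw [← hy, pow_orderOf_eq_one])
    rw [h1, map_one]
  have h2 := cent_m12 i hy'
  have h3 : π c' ∈ centralizer ({π y'} : Set (XX x)) := by
    rw [mem_centralizer_singleton_iff, ← map_mul, ← map_mul]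
    exact congrArg π (Subtype.ext hcy)
  have h4 : orderOf (π c') ∣ 11 := by
    rw [← h2]
    exact Subgroup.orderOf_dvd_natCard _ h3
  have h5 : orderOf (π c') ∣ orderOf c := by
    have h6 := orderOf_map_dvd π c'
    rwa [← Subgroup.orderOf_coe] at h6
  have h6 : orderOf (π c') = 1 := by
    rcases (Nat.dvd_prime (by norm_num)).1 h4 with h7 | h7
    · exact h7
    · rw [h7] at h5
      exact absurd h5 hc
  have h7 : c ∈ zpowers x := hker c' (orderOf_eq_one_iff.1 h6)
  have h8 : orderOf c ∣ 11 := by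
    rw [← hx]
    exact orderOf_dvd_of_mem_zpowers h7
  rcases (Nat.dvd_prime (by norm_num)).1 h8 with h9 | h9
  · exact orderOf_eq_one_iff.1 h9
  · exact absurd (by rw [h9]) hc

/-- in a cyclic group the elements of order `p` generate the same subgroup -/
theorem mem_of_cyclic {G : Type*} [Group G] [Finite G] {P : Subgroup G} (hP : IsCyclic P) {p : ℕ} (hp : p.Prime)
    {x y : G} (hx : x ∈ P) (hy : y ∈ P) (hxo : orderOf x = p) (hyo : orderOf y = p) : y ∈ zpowers x := by
  have h0 := hp.pos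
  obtain ⟨g, hg⟩ := hP.exists_generator
  obtain ⟨Fx⟩ : Nonempty (Fintype P) := ⟨Fintype.ofFinite P⟩
  classical
  have h1 := IsCyclic.card_pow_eq_one_le (α := P) h0
  by_contra hno
  have h2 : ∀ k : ℕ, (⟨x, hx⟩ : P) ^ k ∈ (Finset.univ.filter fun a : P => a ^ p = 1) := by
    intro k
    rw [Finset.mem_filter]
    refine ⟨Finset.mem_univ _, ?_⟩
    rw [← pow_mul, mul_comm, pow_mul]
    have h3 : (⟨x, hx⟩ : P) ^ p = 1 := Subtype.ext (by
      show x ^ p = 1
      rw [← hxo, pow_orderOf_eq_one])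
    rw [h3, one_pow]
  have h3 : (⟨y, hy⟩ : P) ∈ (Finset.univ.filter fun a : P => a ^ p = 1) := by
    rw [Finset.mem_filter]
    refine ⟨Finset.mem_univ _, Subtype.ext ?_⟩
    show y ^ p = 1
    rw [← hyo, pow_orderOf_eq_one]
  have h4 : insert (⟨y, hy⟩ : P) ((Finset.range p).image fun k => (⟨x, hx⟩ : P) ^ k) ⊆
      (Finset.univ.filter fun a : P => a ^ p = 1) := by
    intro a ha
    rw [Finset.mem_insert, Finset.mem_image] at ha
    rcases ha with rfl | ⟨k, -, rfl⟩
    · exact h3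
    · exact h2 k
  have h5 := Finset.card_le_card h4
  rw [Finset.card_insert_of_notMem, Finset.card_image_of_injOn, Finset.card_range] at h5
  · omega
  · intro a ha b hb hab
    have ha' : a < p := by simpa using ha
    have hb' : b < p := by simpa using hb
    have hox : orderOf (⟨x, hx⟩ : P) = p := by rw [← Subgroup.orderOf_coe]; exact hxo
    exact pow_injOn_Iio_orderOf (by rw [Set.mem_Iio, hox]; exact ha') (by rw [Set.mem_Iio, hox]; exact hb') hab
  · intro h6
    rw [Finset.mem_image] at h6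
    obtain ⟨k, -, hk⟩ := h6
    exact hno ⟨(k : ℤ), by
      have := congrArg Subtype.val hk
      simpa using this⟩

theorem sup_pgroup {G : Type*} [Group G] {p : ℕ} [hp : Fact p.Prime] {x y : G} (hx : orderOf x = p) (hy : orderOf y = p)
    (hxy : x * y = y * x) : IsPGroup p (zpowers x ⊔ zpowers y : Subgroup G) := by
  refine IsPGroup.to_sup_of_normal_right' (IsPGroup.of_card (n := 1) ?_) (IsPGroup.of_card (n := 1) ?_) ?_
  · rw [Nat.card_zpowers, hx, pow_one]
  · rw [Nat.card_zpowers, hy, pow_one]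
  · rw [zpowers_le]
    have h1 : x ∈ centralizer (zpowers y : Set G) := by
      rw [mem_centralizer_iff]
      intro h hh
      obtain ⟨k, rfl⟩ := mem_zpowers_iff.1 hh
      exact ((show Commute x y from hxy).zpow_right k).symm
    exact centralizer_le_normalizer _ h1

/-- two independent commuting elements of order `p` : no element of order `p²` if `p³ ∤ |G|` -/
theorem no_sq_of {G : Type*} [Group G] [Finite G] {p : ℕ} [hp : Fact p.Prime] {x y : G} (hx : orderOf x = p)
    (hy : orderOf y = p) (hxy : x * y = y * x) (hyx : y ∉ zpowers x) (hG : ¬ p ^ 3 ∣ Nat.card G) (g : G) :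
    ¬ p ^ 2 ∣ orderOf g := by
  intro hg
  have ho := orderOf_pos g
  obtain ⟨m, hm⟩ := hg
  have hm0 : m ≠ 0 := by
    rintro rfl
    omega
  have hh : orderOf (g ^ m) = p ^ 2 := by
    rw [orderOf_pow_of_dvd hm0 (by rw [hm]; exact dvd_mul_left _ _), hm]
    exact Nat.mul_div_cancel _ (Nat.pos_of_ne_zero hm0)
  obtain ⟨P, hP⟩ := (sup_pgroup hx hy hxy).exists_le_sylow
  have hz : IsPGroup p (zpowers (g ^ m)) := IsPGroup.of_card (n := 2) (by rw [Nat.card_zpowers, hh])
  obtain ⟨Q, hQ⟩ := hz.exists_le_sylow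
  have hQc : Nat.card (Q : Subgroup G) ∣ p ^ 2 := by
    obtain ⟨k, hk⟩ := IsPGroup.iff_card.1 Q.2
    rw [hk]
    refine pow_dvd_pow p ?_
    by_contra hcon
    exact hG ((pow_dvd_pow p (by omega : 3 ≤ k)).trans (hk ▸ card_subgroup_dvd_card (Q : Subgroup G)))
  have hQe : zpowers (g ^ m) = (Q : Subgroup G) := by
    refine eq_of_le_of_card_ge hQ ?_
    rw [Nat.card_zpowers, hh]
    exact Nat.le_of_dvd (pow_pos hp.out.pos 2) hQc
  have hQcyc : IsCyclic (Q : Subgroup G) := by
    rw [← hQe]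
    infer_instance
  have hPc : IsCyclic (P : Subgroup G) :=
    isCyclic_of_surjective (Sylow.equiv Q P) (Sylow.equiv Q P).surjective
  exact hyx (mem_of_cyclic hPc hp.out (hP (mem_sup_left (mem_zpowers x))) (hP (mem_sup_right (mem_zpowers y))) hx hy)

theorem card_MG : ¬ 11 ^ 3 ∣ Nat.card MG := by
  rw [BpSpor.MBigModel.card_M]
  norm_num

/-- **The Monster at 11**, the model -/
theorem model_eleven : ∃ U : Subgroup MG, IsPGroup 11 U ∧
    (∀ c : MG, c ∈ centralizer (U : Set MG) → ¬ 11 ∣ orderOf c → c = 1) ∧ ∀ g : MG, ¬ 11 ^ 2 ∣ orderOf g := by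
  have : Fact (Nat.Prime 11) := ⟨by norm_num⟩
  obtain ⟨x, y, k, hx, hy, hxy, hyx, -, ⟨i⟩⟩ := H609.Inv.Eleven.exists_data
  refine ⟨zpowers x ⊔ zpowers y, sup_pgroup hx hy hxy, ?_, ?_⟩
  · intro c hc hc'
    exact cent_one hx hy hxy hyx i (mem_centralizer_iff.1 hc x (mem_sup_left (mem_zpowers x))).symm
      (mem_centralizer_iff.1 hc y (mem_sup_right (mem_zpowers y))).symm hc'
  · have hfin : Finite MG := Nat.finite_of_card_ne_zero (by rw [BpSpor.MBigModel.card_M]; norm_num)
    exact no_sq_of hx hy hxy hyx card_MG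

/-- transport -/
theorem transport {G : Type u} {H : Type v} [Group G] [Group H] (e : G ≃* H) {p : ℕ}
    (h : ∃ U : Subgroup H, IsPGroup p U ∧ (∀ c : H, c ∈ centralizer (U : Set H) → ¬ p ∣ orderOf c → c = 1) ∧
      ∀ g : H, ¬ p ^ 2 ∣ orderOf g) :
    ∃ U : Subgroup G, IsPGroup p U ∧ (∀ c : G, c ∈ centralizer (U : Set G) → ¬ p ∣ orderOf c → c = 1) ∧
      ∀ g : G, ¬ p ^ 2 ∣ orderOf g := by
  obtain ⟨U, hU, hC, ho⟩ := h
  refine ⟨U.comap e.toMonoidHom, hU.comap_of_injective _ e.injective, ?_, ?_⟩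
  · intro y hy hy'
    have h1 : e y = 1 := by
      refine hC (e y) ?_ (by rwa [MulEquiv.orderOf_eq])
      rw [mem_centralizer_iff]
      intro u hu
      have h2 := mem_centralizer_iff.1 hy (e.symm u) (by
        show e (e.symm u) ∈ U
        rwa [e.apply_symm_apply])
      have h3 := congrArg e h2
      rwa [map_mul, map_mul, e.apply_symm_apply] at h3
    exact (map_eq_one_iff e e.injective).1 h1
  · intro g
    rw [← MulEquiv.orderOf_eq e]
    exact ho _

/-- **The Monster at 11.** -/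
theorem data_eleven {S : Type u} [Group S] (h : Spor.IsoM S) : ∃ U : Subgroup S, IsPGroup 11 U ∧
    (∀ c : S, c ∈ centralizer (U : Set S) → ¬ 11 ∣ orderOf c → c = 1) ∧ ∀ g : S, ¬ 11 ^ 2 ∣ orderOf g := by
  obtain ⟨f⟩ := h
  obtain ⟨f'⟩ := Cfsg.Agent.MonsterP.Equiv.equiv
  exact transport (f.trans f') model_eleven

/-- `x0` for the Monster and `p = 11` -/
theorem x0_eleven {S : Type u} [Group S] [Finite S] (h : Spor.IsoM S) [Fact (Nat.Prime 11)] {M : Ideal AlgInt}
    (hM : IsPModular 11 M) : x0 11 M S = Nat.card {χ : IrrCharacter S // ¬ 11 ∣ charDegree (χ : S → ℂ)} := by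
  obtain ⟨U, hU, hC, ho⟩ := data_eleven h
  exact x0_eq hM hU hC ho

theorem no_sq_m11 {S : Type u} [Group S] (h : Spor.IsoM S) (g : S) : ¬ 11 ^ 2 ∣ orderOf g := by
  obtain ⟨U, hU, hC, ho⟩ := data_eleven h
  exact ho g

/-- the centralizer of every Sylow 11-subgroup is an 11-group -/
theorem centP_m11 {S : Type u} [Group S] [Finite S] (h : Spor.IsoM S) (P : Sylow 11 S) :
    IsPGroup 11 (centralizer ((P : Subgroup S) : Set S)) := by
  have : Fact (Nat.Prime 11) := ⟨by norm_num⟩
  obtain ⟨U, hU, hC, -⟩ := data_eleven h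
  obtain ⟨Q, hQ⟩ := hU.exists_le_sylow
  obtain ⟨g, hg⟩ := MulAction.exists_smul_eq S P Q
  -- elements of the centralizer of `P` of order prime to 11 are trivial
  have key : ∀ c : S, c ∈ centralizer ((P : Subgroup S) : Set S) → ¬ 11 ∣ orderOf c → c = 1 := by
    intro c hc hc'
    have h1 : g * c * g⁻¹ = 1 := by
      refine hC _ ?_ ?_
      · rw [mem_centralizer_iff]
        intro u hu
        have hu' : u ∈ (Q : Subgroup S) := hQ hu
        rw [← hg, Sylow.coe_subgroup_smul, Subgroup.mem_pointwise_smul_iff_inv_smul_mem] at hu'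
        have h2 : (MulAut.conj g)⁻¹ • u = g⁻¹ * u * g := by
          rw [← map_inv, MulAut.smul_def, MulAut.conj_apply, inv_inv]
        rw [h2] at hu'
        have h3 := mem_centralizer_iff.1 hc _ hu'
        calc u * (g * c * g⁻¹) = g * ((g⁻¹ * u * g) * c) * g⁻¹ := by group
          _ = g * (c * (g⁻¹ * u * g)) * g⁻¹ := by rw [h3]
          _ = g * c * g⁻¹ * u := by group
      · have h2 : orderOf (g * c * g⁻¹) = orderOf c := by
          have := MulEquiv.orderOf_eq (MulAut.conj g) c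
          rwa [MulAut.conj_apply] at this
        rwa [h2]
    have h2 : c = g⁻¹ * (g * c * g⁻¹) * g := by group
    rw [h2, h1]
    group
  rw [IsPGroup.iff_orderOf]
  rintro ⟨c, hc⟩
  rw [← Subgroup.orderOf_coe]
  show ∃ k, orderOf c = 11 ^ k
  set n := orderOf c with hn
  have hn0 : n ≠ 0 := (orderOf_pos c).ne'
  have h1 : c ^ (ordProj[11] n) = 1 := by
    refine key _ (Subgroup.pow_mem _ hc _) ?_
    rw [orderOf_pow_of_dvd (Nat.ordProj_pos _ _).ne' (Nat.ordProj_dvd _ _), ← hn]
    exact Nat.not_dvd_ordCompl (by norm_num) hn0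
  exact ⟨_, Nat.dvd_antisymm (orderOf_dvd_of_pow_eq_one h1) (Nat.ordProj_dvd _ _)⟩

end Cfsg.Agent.H761.XZ
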