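import Cfsg.Agent.H735.J4C.Main

/-!
# `J₄` : at least seven irreducible characters of degree prime to 11 (helper761)

A linear certificate (see `H735/J4C`), with the columns of the degrees, of the self-centralizing elements of orders 43,
37, 31, 29, 23 and of `11A`, `11B` only.
-/

set_option autoImplicit false
set_option linter.unusedSectionVars false
set_option maxRecDepth 100000
set_option maxHeartbeats 4000000

open Cfsg Subgroup
open scoped ComplexConjugate

namespace Cfsg.Agent.H761.XZ

open Cfsg.Agent.Characters.Core Cfsg.Agent.H653.Sieve Cfsg.Agent.H735.Lin Cfsg.Agent.H735.J4C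

universe u

/-- the certificate -/
def cf : Coef where
  M := [[.negSucc 54, .negSucc 449561102573, .negSucc 953971466945, .negSucc 3287827033418, .negSucc 3294103427634, .ofNat 11186221486415, .ofNat 89906974815, .negSucc 1282534296692],
    [.negSucc 412185698934169171999, .negSucc 183557913259369012999, .ofNat 4976616029404603720000, .negSucc 60444977805769656299, .negSucc 1563964581402336419999, .ofNat 58325973149011736200, .ofNat 0],
    [.negSucc 380635007705388938999, .negSucc 585084692875899129999, .negSucc 838802003123457260999, .negSucc 1729430407524550269999, .ofNat 67983896484413402800, .ofNat 0],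
    [.negSucc 3428168809568749809999, .negSucc 14694010755649313799999, .ofNat 8668162012911635040000, .negSucc 22700433653405207999, .ofNat 0],
    [.ofNat 4997856201491061690000, .negSucc 8172106702657076309999, .negSucc 40142461060944986999, .ofNat 0],
    [.ofNat 6192327283990657110000, .negSucc 82768075689994030699, .ofNat 0],
    [.negSucc 3722552528674436279, .ofNat 0],
    [.ofNat 0]]
  E := [.negSucc 2774613155458918579999, .ofNat 108867983457793744000000, .negSucc 16778952692678336499999]
  k := .ofNat 97514738895859729700
  o := .ofNat 37465807110397750900000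
  RS := []
  RT := []
  ST := []

/-- the scale -/
def Sc : ℤ := 10000000000000000000000

/-- the value at a type -/
def ev (C : Coef) (d : ℕ) (X Y : List ℤ) : ℤ := C.k + (bif Nat.beq d 1 then C.o else 0) + qt C.M X + ex C.E Y

/-- The check for one degree. -/
def chkD (C : Coef) (c : ℤ) (d : ℕ) : Bool :=
  allH d PF fun ws => allAB d fun a b =>
    decide (ev C d ((d : ℤ) :: (ws ++ [a, b])) ws ≤ (bif Nat.beq (d % 11) 0 then 0 else c))

/-- The check for all degrees. -/
def chkA (C : Coef) (c : ℤ) : Bool :=
  allDiv N (fun d => bif Nat.ble N (d * d) then true else chkD C c d) L 1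

theorem chk_cf : chkA cf Sc = true := by decide +kernel

/-- the total -/
def tt (C : Coef) : ℤ :=
  C.k * 62 + C.o * 1 + trc C.M [86775571046077562880, 129, 111, 93, 29, 23, 31944, 242] + Cfsg.Agent.H735.Lin.dot C.E [3, 3, 3]

theorem tt_cf : 6 * Sc < tt cf := by decide +kernel

end Cfsg.Agent.H761.XZ
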