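import Cfsg.Agent.H761.XZ.J4Data
import Cfsg.Agent.H735.J4C.Fin

/-!
# `J₄` : at least seven irreducible characters of degree prime to 11 (helper761)
-/

set_option autoImplicit false
set_option linter.unusedSectionVars false

open Cfsg Subgroup
open scoped ComplexConjugate

namespace Cfsg.Agent.H761.XZ

open Cfsg.Agent.Characters.Core Cfsg.Agent.H653.Sieve Cfsg.Agent.H735.Lin Cfsg.Agent.H735.J4C Cfsg.Agent.H265.J4LP

universe u

theorem seven_le {G : Type u} [Group G] [Finite G] [Fintype (IrrCharacter G)] [IsSimpleGroup G]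
    (hG : ¬ IsMulCommutative G) (hN : Nat.card G = N) (hk : Nat.card (ConjClasses G) = 62)
    (hc : ∀ p ∈ [43, 37, 31, 29, 23], ∃ x : G, orderOf x = p ∧ Nat.card (centralizer ({x} : Set G)) = p)
    {z x : G} (hz : orderOf z = 11) (hx : orderOf x = 11) {a b : IrrCharacter G → ℤ} (h11 : H34.TI.Cols11 z x a b) :
    7 ≤ (Finset.univ.filter fun χ : IrrCharacter G => ¬ 11 ∣ charDegree (χ : G → ℂ)).card := by
  classical
  have := Fintype.ofFinite G
  obtain ⟨W0, m0, q0, c0, r0⟩ := prime_col hG (by norm_num) hN (hc 43 (by simp)) 14 3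
    [(0, .ofNat 0), (1, .ofNat 3), (14, .negSucc 0), (29, .ofNat 1), (42, .negSucc 2)] 3 true (by decide +kernel)
  obtain ⟨W1, m1, q1, c1, r1⟩ := prime_col hG (by norm_num) hN (hc 37 (by simp)) 12 3
    [(0, .ofNat 0), (1, .ofNat 3), (12, .negSucc 0), (25, .ofNat 1), (36, .negSucc 2)] 3 true (by decide +kernel)
  obtain ⟨W2, m2, q2, c2, r2⟩ := prime_col hG (by norm_num) hN (hc 31 (by simp)) 10 3
    [(0, .ofNat 0), (1, .ofNat 3), (10, .negSucc 0), (21, .ofNat 1), (30, .negSucc 2)] 3 true (by decide +kernel)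
  obtain ⟨W3, m3, q3, -, r3⟩ := prime_col hG (by norm_num) hN (hc 29 (by simp)) 28 1
    [(0, .ofNat 0), (1, .ofNat 1), (28, .negSucc 0)] 0 false (by decide +kernel)
  obtain ⟨W4, m4, q4, -, r4⟩ := prime_col hG (by norm_num) hN (hc 23 (by simp)) 22 1
    [(0, .ofNat 0), (1, .ofNat 1), (22, .negSucc 0)] 0 false (by decide +kernel)
  have md := deg_mem_Sp (G := G)
  have ma : (fun χ => (a χ : ℂ)) ∈ Sp G (fun n => n = 11) := by
    rw [funext h11.a_eq]
    exact mem_Sp z hz
  have mb : (fun χ => (b χ : ℂ)) ∈ Sp G (fun n => n = 11) := by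
    rw [funext h11.b_eq]
    exact mem_Sp x hx
  have hA0 : Orth [(fun χ => (deg χ : ℤ)), W0, W1, W2, W3, W4, a, b]
      [86775571046077562880, 129, 111, 93, 29, 23, 31944, 242] := by
    refine .cons (by rw [sumsq, hN]; rfl) ?_ (.cons q0 ?_ (.cons q1 ?_ (.cons q2 ?_ (.cons q3 ?_ (.cons q4 ?_
      (.cons h11.aa ?_ (.cons h11.bb ?_ .nil)))))))
    · intro W hW
      simp only [List.mem_cons, List.not_mem_nil, or_false] at hW
      rcases hW with rfl | rfl | rfl | rfl | rfl | rfl | rfl
      · exact orth_eq (by norm_num) md m0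
      · exact orth_eq (by norm_num) md m1
      · exact orth_eq (by norm_num) md m2
      · exact orth_eq (by norm_num) md m3
      · exact orth_eq (by norm_num) md m4
      · exact orth_eq (by norm_num) md ma
      · exact orth_eq (by norm_num) md mb
    · intro W hW
      simp only [List.mem_cons, List.not_mem_nil, or_false] at hW
      rcases hW with rfl | rfl | rfl | rfl | rfl | rfl
      · exact orth_eq (by norm_num) m0 m1
      · exact orth_eq (by norm_num) m0 m2
      · exact orth_eq (by norm_num) m0 m3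
      · exact orth_eq (by norm_num) m0 m4
      · exact orth_eq (by norm_num) m0 ma
      · exact orth_eq (by norm_num) m0 mb
    · intro W hW
      simp only [List.mem_cons, List.not_mem_nil, or_false] at hW
      rcases hW with rfl | rfl | rfl | rfl | rfl
      · exact orth_eq (by norm_num) m1 m2
      · exact orth_eq (by norm_num) m1 m3
      · exact orth_eq (by norm_num) m1 m4
      · exact orth_eq (by norm_num) m1 ma
      · exact orth_eq (by norm_num) m1 mb
    · intro W hW
      simp only [List.mem_cons, List.not_mem_nil, or_false] at hW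
      rcases hW with rfl | rfl | rfl | rfl
      · exact orth_eq (by norm_num) m2 m3
      · exact orth_eq (by norm_num) m2 m4
      · exact orth_eq (by norm_num) m2 ma
      · exact orth_eq (by norm_num) m2 mb
    · intro W hW
      simp only [List.mem_cons, List.not_mem_nil, or_false] at hW
      rcases hW with rfl | rfl | rfl
      · exact orth_eq (by norm_num) m3 m4
      · exact orth_eq (by norm_num) m3 ma
      · exact orth_eq (by norm_num) m3 mb
    · intro W hW
      simp only [List.mem_cons, List.not_mem_nil, or_false] at hW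
      rcases hW with rfl | rfl
      · exact orth_eq (by norm_num) m4 ma
      · exact orth_eq (by norm_num) m4 mb
    · intro W hW
      simp only [List.mem_cons, List.not_mem_nil, or_false] at hW
      rw [hW]
      exact h11.ab
    · intro W hW
      simp at hW
  have hA : Orth ((fun χ => (deg χ : ℤ)) :: ([W0, W1, W2, W3, W4] ++ [a, b]))
      [86775571046077562880, 129, 111, 93, 29, 23, 31944, 242] := hA0
  have hnp : ¬ (Nat.card G).Prime := by
    rw [hN, N]
    norm_num
  obtain ⟨χ₁, hχ₁⟩ : ∃ χ : IrrCharacter G, (χ : G → ℂ) = 1 := ⟨⟨1, isIrr_one⟩, rfl⟩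
  have hd1 : deg χ₁ = 1 := by
    unfold deg charDegree
    rw [hχ₁]
    simp
  have hone : ∑ χ : IrrCharacter G, (bif Nat.beq (deg χ) 1 then (1 : ℤ) else 0) = 1 := by
    rw [Finset.sum_eq_single χ₁]
    · rw [hd1]
      rfl
    · intro χ _ hχ
      have h1 : Nat.beq (deg χ) 1 = false := by
        rw [Bool.eq_false_iff]
        intro h2
        exact hχ (Subtype.ext ((one_of_deg hnp χ (Nat.eq_of_beq_eq_true h2)).trans hχ₁.symm))
      rw [h1]
      rfl
    · intro h
      exact absurd (Finset.mem_univ _) h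
  have hcard : (Fintype.card (IrrCharacter G) : ℤ) = 62 := by
    rw [← Nat.card_eq_fintype_card, card_irr, hk]
    rfl
  have hd : ∀ χ : IrrCharacter G, deg χ ∣ N := by
    intro χ
    rw [← hN]
    exact Blocks.Knorr.charDegree_dvd χ.2
  have hd2 : ∀ χ : IrrCharacter G, deg χ * deg χ < N := by
    intro χ
    by_cases hne : χ = χ₁
    · rw [hne, hd1, N]
      norm_num
    · have hsq := SmallSimple.DegreeData.sum_sq (G := G)
      have h4 : ∑ χ' ∈ ({χ, χ₁} : Finset (IrrCharacter G)), charDegree (χ' : G → ℂ) ^ 2 ≤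
          ∑ χ' : IrrCharacter G, charDegree (χ' : G → ℂ) ^ 2 := Finset.sum_le_sum_of_subset (Finset.subset_univ _)
      rw [Finset.sum_pair hne, hsq, hN] at h4
      have e1 : charDegree (χ : G → ℂ) = deg χ := rfl
      have e2 : charDegree (χ₁ : G → ℂ) = deg χ₁ := rfl
      rw [e1, e2, hd1, pow_two] at h4
      omega
  -- the total
  have hT : ∑ χ : IrrCharacter G, ev cf (deg χ) (val ((fun χ => (deg χ : ℤ)) :: ([W0, W1, W2, W3, W4] ++ [a, b])) χ)
      (val [W0, W1, W2] χ) = tt cf := by
    unfold ev tt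
    have e1 : ∑ x : IrrCharacter G, (bif Nat.beq (deg x) 1 then cf.o else 0) = cf.o * 1 := by
      rw [← hone, Finset.mul_sum]
      refine Finset.sum_congr rfl fun x _ => ?_
      cases Nat.beq (deg x) 1 <;> simp
    have e2 : ∑ _x : IrrCharacter G, cf.k = cf.k * 62 := by
      rw [Finset.sum_const, Finset.card_univ, nsmul_eq_mul, hcard, mul_comm]
    rw [Finset.sum_add_distrib, Finset.sum_add_distrib, Finset.sum_add_distrib, e1, e2, sum_qt cf.M hA,
      sum_ex cf.E (.cons (c0 rfl) (.cons (c1 rfl) (.cons (c2 rfl) .nil)))]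
  have hF : ∀ χ : IrrCharacter G, ev cf (deg χ) (val ((fun χ => (deg χ : ℤ)) :: ([W0, W1, W2, W3, W4] ++ [a, b])) χ)
      (val [W0, W1, W2] χ) ≤ if ¬ 11 ∣ charDegree (χ : G → ℂ) then Sc else 0 := by
    intro χ
    have hpr : ∀ pa ∈ L, pa.1.Prime := by
      intro pa hpa
      have hL : (L.all fun pa => Nat.Prime pa.1) = true := by decide +kernel
      have := List.all_eq_true.1 hL pa hpa
      simpa using this
    have hLN : facProd L = N := by decide +kernel
    have h1 := allDiv_spec hpr chk_cf (deg χ) (by rw [hLN]; exact hd χ) (by rw [one_mul]; exact hd2 χ)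
    have h2 : Nat.ble N (deg χ * deg χ) = false := by
      rw [Bool.eq_false_iff]
      intro h5
      exact absurd (Nat.le_of_ble_eq_true h5) (by have := hd2 χ; omega)
    rw [one_mul, h2, cond_false, chkD] at h1
    have hW : List.Forall₂ (fun (p : ℕ × List (ℕ × ℤ)) (w : ℤ) => (deg χ % p.1, w) ∈ p.2) PF
        (val [W0, W1, W2, W3, W4] χ) :=
      .cons (r0 χ) (.cons (r1 χ) (.cons (r2 χ) (.cons (r3 χ) (.cons (r4 χ) .nil))))
    have h3 := allAB_spec (allH_spec h1 hW) (h11.norm χ) (h11.cong χ) (h11.cong' χ) (h11.dvd_a χ) (h11.dvd_b χ)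
    rw [decide_eq_true_eq] at h3
    have e0 : ex cf.E (val [W0, W1, W2] χ) = ex cf.E (val [W0, W1, W2, W3, W4] χ) := by
      simp [ex, val, cf]
    unfold ev at h3 ⊢
    rw [e0]
    have e1 : val ((fun x => (deg x : ℤ)) :: ([W0, W1, W2, W3, W4] ++ [a, b])) χ =
        (deg χ : ℤ) :: (val [W0, W1, W2, W3, W4] χ ++ [a χ, b χ]) := by
      simp [val]
    rw [e1]
    refine h3.trans (le_of_eq ?_)
    by_cases h6 : 11 ∣ charDegree (χ : G → ℂ)
    · rw [if_neg (not_not.2 h6)]
      have h7 : Nat.beq (deg χ % 11) 0 = true := by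
        have : deg χ % 11 = 0 := Nat.mod_eq_zero_of_dvd h6
        rw [this]
        rfl
      rw [h7, cond_true]
    · rw [if_pos h6]
      have h7 : Nat.beq (deg χ % 11) 0 = false := by
        rw [Bool.eq_false_iff]
        intro h8
        exact h6 (Nat.dvd_of_mod_eq_zero (Nat.eq_of_beq_eq_true h8))
      rw [h7, cond_false]
  have h1 := tot_le (P := fun χ : IrrCharacter G => ¬ 11 ∣ charDegree (χ : G → ℂ)) hT hF
  have h2 := tt_cf
  have hS : (0 : ℤ) < Sc := by decide +kernel
  have h3 : (6 : ℤ) < (Finset.univ.filter fun χ : IrrCharacter G => ¬ 11 ∣ charDegree (χ : G → ℂ)).card := by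
    by_contra hcon
    push Not at hcon
    have := mul_le_mul_of_nonneg_left hcon hS.le
    linarith
  have h4 : 6 < (Finset.univ.filter fun χ : IrrCharacter G => ¬ 11 ∣ charDegree (χ : G → ℂ)).card := by
    exact_mod_cast h3
  exact h4

attribute [local instance] H877.IMJ4.finJ4

/-- **`J₄` has at least seven irreducible characters of degree prime to 11.** -/
theorem seven_le_J4 [Fintype (IrrCharacter Spor.J4)] :
    7 ≤ (Finset.univ.filter fun χ : IrrCharacter Spor.J4 => ¬ 11 ∣ charDegree (χ : Spor.J4 → ℂ)).card := by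
  classical
  have hsim : IsSimpleGroup Spor.J4 := H877.IMJ4.simple
  obtain ⟨a, b, h11⟩ := H34.TI.cols11 El.eleven hN
  exact seven_le H877.IMJ4.nonab hN H877.IMJ4.card_classes cents El.eleven.ord_z El.eleven.ord_x h11

end Cfsg.Agent.H761.XZ
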